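import Mathlib
import Groth.Prelude.Def_GrSeg
import Groth.Prelude.Def_GrLC
import Groth.Agent.Lib.Helper9.GrLC.Basic
import Groth.Agent.Lib.Helper9.GrLC.Pos
import Groth.Agent.Lib.Helper9.GrLC.Trans

/-!
# Segre products of graded modules (abstractly presented): basic lemmas
-/

set_option autoImplicit false
set_option linter.unusedSectionVars false
universe u
open scoped TensorProduct
open DirectSum

namespace Groth.Agent.Helper9.SegreLib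

section Piece

variable {k : Type u} [CommRing k] {M N : Type u} [AddCommGroup M] [Module k M]
  [AddCommGroup N] [Module k N] {τ τ' : Type u} [SetLike τ M] [SetLike τ' N]
  (ℳ : ℤ → τ) (𝒩 : ℤ → τ')

lemma tmul_mem_segrePiece {n : ℤ} {a : M} {b : N} (ha : a ∈ ℳ n) (hb : b ∈ 𝒩 n) :
    a ⊗ₜ[k] b ∈ GrSeg.segrePiece k ℳ 𝒩 n :=
  Submodule.subset_span ⟨a, ha, b, hb, rfl⟩

lemma segrePiece_le {n : ℤ} (W : Submodule k (M ⊗[k] N))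
    (h : ∀ a ∈ ℳ n, ∀ b ∈ 𝒩 n, a ⊗ₜ[k] b ∈ W) : GrSeg.segrePiece k ℳ 𝒩 n ≤ W := by
  apply Submodule.span_le.mpr
  rintro x ⟨a, ha, b, hb, rfl⟩
  exact h a ha b hb

end Piece

section Ring

variable {k : Type u} [CommRing k] {R S T : Type u} [CommRing R] [CommRing S] [CommRing T]
  [Algebra k R] [Algebra k S] [Algebra k T]
  {𝒜 : ℤ → Submodule k R} {ℬ : ℤ → Submodule k S} {𝒯 : ℤ → Submodule k T}
  [GradedAlgebra 𝒜] [GradedAlgebra ℬ] [GradedAlgebra 𝒯] {ψ : T →ₐ[k] R ⊗[k] S}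
  (hT : GrSeg.IsSegreRing 𝒜 ℬ 𝒯 ψ)

include hT in
lemma map_mem_segrePiece {n : ℤ} {t : T} (ht : t ∈ 𝒯 n) : ψ t ∈ GrSeg.segrePiece k 𝒜 ℬ n := by
  rw [← hT.2 n]
  exact ⟨t, ht, rfl⟩

include hT in
lemma exists_ring_of_mem {n : ℤ} {z : R ⊗[k] S} (hz : z ∈ GrSeg.segrePiece k 𝒜 ℬ n) :
    ∃ t ∈ 𝒯 n, ψ t = z := by
  rw [← hT.2 n] at hz
  obtain ⟨t, ht, he⟩ := hz
  exact ⟨t, ht, he⟩

include hT in
lemma exists_ring_of_tmul {n : ℤ} {r : R} {s : S} (hr : r ∈ 𝒜 n) (hs : s ∈ ℬ n) :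
    ∃ t ∈ 𝒯 n, ψ t = r ⊗ₜ[k] s :=
  exists_ring_of_mem hT (tmul_mem_segrePiece 𝒜 ℬ hr hs)

end Ring

section Mod

variable {k : Type u} [CommRing k] {R S T : Type u} [CommRing R] [CommRing S] [CommRing T]
  [Algebra k R] [Algebra k S] [Algebra k T]
  {M N P : Type u} [AddCommGroup M] [Module R M] [Module k M] [IsScalarTower k R M]
  [AddCommGroup N] [Module S N] [Module k N] [IsScalarTower k S N]
  [AddCommGroup P] [Module T P] [Module k P] [IsScalarTower k T P]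
  {τM τN : Type u} [SetLike τM M] [SetLike τN N]
  {ψ : T →ₐ[k] R ⊗[k] S} {ℳ : ℤ → τM} {𝒩 : ℤ → τN} {𝒬 : ℤ → AddSubgroup P}
  [DirectSum.Decomposition 𝒬] {φ : P →ₗ[k] M ⊗[k] N} (hP : GrSeg.IsSegreMod ψ ℳ 𝒩 𝒬 φ)

include hP in
lemma mem_piece_iff (n : ℤ) (p : P) : p ∈ 𝒬 n ↔ φ p ∈ GrSeg.segrePiece k ℳ 𝒩 n := by
  constructor
  · intro hp
    have h1 : φ p ∈ φ '' (𝒬 n : Set P) := ⟨p, hp, rfl⟩
    rw [hP.image_piece n] at h1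
    exact h1
  · intro hp
    have h1 : φ p ∈ φ '' (𝒬 n : Set P) := by rw [hP.image_piece n]; exact hp
    obtain ⟨p', hp', he⟩ := h1
    rw [← hP.injective he]
    exact hp'

include hP in
lemma exists_of_mem {n : ℤ} {z : M ⊗[k] N} (hz : z ∈ GrSeg.segrePiece k ℳ 𝒩 n) :
    ∃ p ∈ 𝒬 n, φ p = z := by
  have h1 : z ∈ φ '' (𝒬 n : Set P) := by rw [hP.image_piece n]; exact hz
  obtain ⟨p, hp, he⟩ := h1
  exact ⟨p, hp, he⟩

include hP in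
lemma exists_of_tmul {n : ℤ} {x : M} {y : N} (hx : x ∈ ℳ n) (hy : y ∈ 𝒩 n) :
    ∃ p ∈ 𝒬 n, φ p = x ⊗ₜ[k] y :=
  exists_of_mem hP (tmul_mem_segrePiece ℳ 𝒩 hx hy)

include hP in
/-- the pieces of a Segre product are `k`-subspaces -/
lemma smul_mem_piece (c : k) {n : ℤ} {p : P} (hp : p ∈ 𝒬 n) : c • p ∈ 𝒬 n := by
  rw [mem_piece_iff hP, map_smul]
  exact Submodule.smul_mem _ c ((mem_piece_iff hP n p).mp hp)

/-- the action of a bihomogeneous element of bidegree `(i, i)` on the piece of degree `j` -/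
lemma act_mem {σR σS : Type u} [SetLike σR R] [SetLike σS S] (𝒜 : ℤ → σR) (ℬ : ℤ → σS)
    (ℳ : ℤ → τM) (𝒩 : ℤ → τN)
    (hM : ∀ (i j : ℤ) (r : R) (x : M), r ∈ 𝒜 i → x ∈ ℳ j → r • x ∈ ℳ (i + j))
    (hN : ∀ (i j : ℤ) (s : S) (y : N), s ∈ ℬ i → y ∈ 𝒩 j → s • y ∈ 𝒩 (i + j))
    {i j : ℤ} {a : R ⊗[k] S} (ha : a ∈ GrSeg.segrePiece k 𝒜 ℬ i) {z : M ⊗[k] N}
    (hz : z ∈ GrSeg.segrePiece k ℳ 𝒩 j) :
    GrSeg.act k R S M N a z ∈ GrSeg.segrePiece k ℳ 𝒩 (i + j) := by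
  have h1 : GrSeg.segrePiece k 𝒜 ℬ i ≤
      (GrSeg.segrePiece k ℳ 𝒩 (i + j)).comap ((GrSeg.act k R S M N).flip z) := by
    apply segrePiece_le
    intro r hr s hs
    rw [Submodule.mem_comap, LinearMap.flip_apply]
    have h2 : GrSeg.segrePiece k ℳ 𝒩 j ≤
        (GrSeg.segrePiece k ℳ 𝒩 (i + j)).comap (GrSeg.act k R S M N (r ⊗ₜ[k] s)) := by
      apply segrePiece_le
      intro x hx y hy
      rw [Submodule.mem_comap, GrSeg.act_tmul]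
      exact tmul_mem_segrePiece ℳ 𝒩 (hM i j r x hr hx) (hN i j s y hs hy)
    exact h2 hz
  exact h1 ha

variable {𝒜 : ℤ → Submodule k R} {ℬ : ℤ → Submodule k S} {𝒯 : ℤ → Submodule k T}
  [GradedAlgebra 𝒜] [GradedAlgebra ℬ] [GradedAlgebra 𝒯] (hT : GrSeg.IsSegreRing 𝒜 ℬ 𝒯 ψ)

include hT hP in
/-- a Segre product is a graded module over the Segre ring -/
lemma smul_mem_of_mem
    (hM : ∀ (i j : ℤ) (r : R) (x : M), r ∈ 𝒜 i → x ∈ ℳ j → r • x ∈ ℳ (i + j))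
    (hN : ∀ (i j : ℤ) (s : S) (y : N), s ∈ ℬ i → y ∈ 𝒩 j → s • y ∈ 𝒩 (i + j))
    {i j : ℤ} {t : T} (ht : t ∈ 𝒯 i) {p : P} (hp : p ∈ 𝒬 j) : t • p ∈ 𝒬 (i + j) := by
  rw [mem_piece_iff hP, hP.map_smul]
  exact act_mem 𝒜 ℬ ℳ 𝒩 hM hN (map_mem_segrePiece hT ht) ((mem_piece_iff hP j p).mp hp)

include hT hP in
theorem gradedSMul
    (hM : ∀ (i j : ℤ) (r : R) (x : M), r ∈ 𝒜 i → x ∈ ℳ j → r • x ∈ ℳ (i + j))
    (hN : ∀ (i j : ℤ) (s : S) (y : N), s ∈ ℬ i → y ∈ 𝒩 j → s • y ∈ 𝒩 (i + j)) :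
    SetLike.GradedSMul (Groth.Agent.Helper9.GrLCLib.Trans.toAG 𝒯) 𝒬 :=
  ⟨fun {i j} _ _ ht hp => by
    rw [vadd_eq_add]
    exact smul_mem_of_mem hP hT hM hN ht hp⟩

end Mod

end Groth.Agent.Helper9.SegreLib
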