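import Mathlib
import Groth.Prelude.Def_GrSeg
import Groth.Prelude.Def_GrLC
import Groth.Agent.Lib.Helper9.GrLC.Basic
import Groth.Agent.Lib.Helper9.GrLC.Hom
import Groth.Agent.Lib.Helper9.GrLC.Trans

/-!
# Monomial spanning sets of the pieces of a finitely generated graded module over a graded algebra
of finite type
-/

set_option autoImplicit false
set_option linter.unusedSectionVars false
universe u
open DirectSum

namespace Groth.Agent.Helper9.SegreLib
namespace Gen

open Groth.Agent.Helper9.GrLCLib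

variable {k : Type u} [Field k] {R : Type u} [CommRing R] [Algebra k R] (𝒜 : ℤ → Submodule k R)
  [GradedAlgebra 𝒜]

/-- homogeneous algebra generators -/
lemma exists_homog_alg_generators [Algebra.FiniteType k R] :
    ∃ (p : ℕ) (x : Fin p → R) (a : Fin p → ℤ), (∀ i, x i ∈ 𝒜 (a i)) ∧
      Algebra.adjoin k (Set.range x) = ⊤ := by
  classical
  obtain ⟨G, hG⟩ := (Algebra.FiniteType.out : (⊤ : Subalgebra k R).FG)
  let G' : Finset R := G.biUnion (fun s => (decompose 𝒜 s).support.image
    (fun n => ((decompose 𝒜 s n : 𝒜 n) : R)))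
  have hG' : ∀ t ∈ G', ∃ n, t ∈ 𝒜 n := by
    intro t ht
    simp only [G', Finset.mem_biUnion, Finset.mem_image] at ht
    obtain ⟨s, _, n, _, rfl⟩ := ht
    exact ⟨n, (decompose 𝒜 s n).2⟩
  have hadj : Algebra.adjoin k (G' : Set R) = ⊤ := by
    rw [eq_top_iff, ← hG]
    apply Algebra.adjoin_le
    intro s hs
    have h1 : s = ∑ n ∈ (decompose 𝒜 s).support, ((decompose 𝒜 s n : 𝒜 n) : R) :=
      (DirectSum.sum_support_decompose 𝒜 s).symm
    rw [SetLike.mem_coe, h1]
    refine Subalgebra.sum_mem _ (fun n hn => Algebra.subset_adjoin ?_)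
    simp only [G', Finset.coe_biUnion, Finset.coe_image, Set.mem_iUnion, Set.mem_image,
      Finset.mem_coe]
    exact ⟨s, hs, n, hn, rfl⟩
  choose! deg hdeg using hG'
  refine ⟨G'.card, fun i => (G'.equivFin.symm i : R), fun i => deg (G'.equivFin.symm i : R),
    fun i => hdeg _ (G'.equivFin.symm i).2, ?_⟩
  rw [eq_top_iff, ← hadj]
  apply Algebra.adjoin_mono
  intro s hs
  exact ⟨G'.equivFin ⟨s, hs⟩, by simp⟩

variable {p : ℕ} (x : Fin p → R) (a : Fin p → ℤ)

/-- monomials -/
def mon (α : Fin p → ℕ) : R := ∏ i, x i ^ α i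

/-- weights -/
def wt (α : Fin p → ℕ) : ℤ := ∑ i, α i • a i

lemma mon_add (α β : Fin p → ℕ) : mon x (α + β) = mon x α * mon x β := by
  simp only [mon, Pi.add_apply, pow_add, Finset.prod_mul_distrib]

lemma wt_add (α β : Fin p → ℕ) : wt a (α + β) = wt a α + wt a β := by
  simp only [wt, Pi.add_apply, add_smul, Finset.sum_add_distrib]

lemma mon_single (i : Fin p) : mon x (Pi.single i 1) = x i := by
  classical
  rw [mon, Finset.prod_eq_single i]
  · simp
  · intro j _ hj
    simp [hj]
  · intro h; exact absurd (Finset.mem_univ i) h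

lemma mon_zero : mon x (0 : Fin p → ℕ) = 1 := by simp [mon]

include 𝒜 in
lemma mon_mem (hx : ∀ i, x i ∈ 𝒜 (a i)) (α : Fin p → ℕ) : mon x α ∈ 𝒜 (wt a α) :=
  SetLike.prod_pow_mem_graded 𝒜 a x α (fun i _ => hx i)

section Module

variable {M : Type u} [AddCommGroup M] [Module R M] [Module k M] [IsScalarTower k R M]
  (ℳ : ℤ → AddSubgroup M) [DirectSum.Decomposition ℳ] [SetLike.GradedSMul 𝒜 ℳ]
  {t : ℕ} (u : Fin t → M) (c : Fin t → ℤ)

/-- the `k`-span of the monomial multiples of the generators is everything -/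
lemma span_mon_smul_eq_top (hgen : Algebra.adjoin k (Set.range x) = ⊤)
    (hspan : Submodule.span R (Set.range u) = ⊤) :
    Submodule.span k {m : M | ∃ (α : Fin p → ℕ) (l : Fin t), m = mon x α • u l} = ⊤ := by
  set V : Submodule k M :=
    Submodule.span k {m : M | ∃ (α : Fin p → ℕ) (l : Fin t), m = mon x α • u l} with hV
  -- `V` is stable under `R`
  have hstab : ∀ r : R, ∀ v ∈ V, r • v ∈ V := by
    intro r
    have hr : r ∈ Algebra.adjoin k (Set.range x) := by rw [hgen]; exact Algebra.mem_top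
    refine Algebra.adjoin_induction (p := fun r _ => ∀ v ∈ V, r • v ∈ V) ?_ ?_ ?_ ?_ hr
    · rintro _ ⟨i, rfl⟩ v hv
      refine Submodule.span_induction (p := fun v _ => x i • v ∈ V) ?_ ?_ ?_ ?_ hv
      · rintro _ ⟨α, l, rfl⟩
        apply Submodule.subset_span
        refine ⟨α + Pi.single i 1, l, ?_⟩
        rw [mon_add, mon_single, mul_comm, mul_smul]
      · rw [smul_zero]; exact Submodule.zero_mem _
      · intro v w _ _ hv hw; rw [smul_add]; exact Submodule.add_mem _ hv hw
      · intro b v _ hv; rw [smul_comm]; exact Submodule.smul_mem _ b hv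
    · intro b v hv
      rw [algebraMap_smul]
      exact Submodule.smul_mem _ b hv
    · intro r s _ _ hr hs v hv
      rw [add_smul]; exact Submodule.add_mem _ (hr v hv) (hs v hv)
    · intro r s _ _ hr hs v hv
      rw [mul_smul]; exact hr _ (hs v hv)
  let V' : Submodule R M :=
    { carrier := V
      zero_mem' := V.zero_mem
      add_mem' := V.add_mem
      smul_mem' := fun r v hv => hstab r v hv }
  have hV' : (⊤ : Submodule R M) ≤ V' := by
    rw [← hspan, Submodule.span_le]
    rintro _ ⟨l, rfl⟩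
    apply Submodule.subset_span
    exact ⟨0, l, by rw [mon_zero, one_smul]⟩
  rw [eq_top_iff]
  intro m _
  exact hV' (Submodule.mem_top : m ∈ (⊤ : Submodule R M))

include 𝒜 in
/-- the projections are `k`-linear -/
lemma proj_smul_k (b : k) (n : ℤ) (m : M) : proj ℳ n (b • m) = b • proj ℳ n m := by
  have := Trans.gsmulToAG' 𝒜 ℳ
  have hb : algebraMap k R b ∈ Trans.toAG 𝒜 0 := SetLike.algebraMap_mem_graded 𝒜 b
  have h1 := proj_smul_of_mem (Trans.toAG 𝒜) ℳ hb m n
  rw [zero_add, algebraMap_smul, algebraMap_smul] at h1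
  exact h1

/-- the pieces are spanned by the monomial multiples of the right degree -/
theorem mem_span_mon_smul (hx : ∀ i, x i ∈ 𝒜 (a i)) (hu : ∀ l, u l ∈ ℳ (c l))
    (hgen : Algebra.adjoin k (Set.range x) = ⊤)
    (hspan : Submodule.span R (Set.range u) = ⊤) (n : ℤ) (m : M) (hm : m ∈ ℳ n) :
    m ∈ Submodule.span k {m : M | ∃ (α : Fin p → ℕ) (l : Fin t),
      wt a α + c l = n ∧ m = mon x α • u l} := by
  have := Trans.gsmulToAG' 𝒜 ℳ
  have key : ∀ m : M, proj ℳ n m ∈ Submodule.span k {m : M | ∃ (α : Fin p → ℕ) (l : Fin t),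
      wt a α + c l = n ∧ m = mon x α • u l} := by
    intro m
    have hm : m ∈ Submodule.span k {m : M | ∃ (α : Fin p → ℕ) (l : Fin t), m = mon x α • u l} := by
      rw [span_mon_smul_eq_top x u hgen hspan]; exact Submodule.mem_top
    refine Submodule.span_induction (p := fun m _ => proj ℳ n m ∈ _) ?_ ?_ ?_ ?_ hm
    · rintro _ ⟨α, l, rfl⟩
      have hmem : mon x α • u l ∈ ℳ (wt a α + c l) :=
        smul_mem_add (Trans.toAG 𝒜) ℳ (show mon x α ∈ Trans.toAG 𝒜 _ from mon_mem 𝒜 x a hx α) (hu l)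
      by_cases h : wt a α + c l = n
      · rw [← h, proj_of_mem_same ℳ hmem]
        exact Submodule.subset_span ⟨α, l, rfl, rfl⟩
      · rw [proj_of_mem_ne ℳ hmem h]
        exact Submodule.zero_mem _
    · rw [map_zero]; exact Submodule.zero_mem _
    · intro v w _ _ hv hw; rw [map_add]; exact Submodule.add_mem _ hv hw
    · intro b v _ hv
      rw [proj_smul_k 𝒜 ℳ b n v]
      exact Submodule.smul_mem _ b hv
  have := key m
  rwa [proj_of_mem_same ℳ hm] at this

end Module

end Gen
end Groth.Agent.Helper9.SegreLib
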